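import Groth.Agent.TwistShriek.RGammaFunc
import Groth.Agent.TildeRpush.Main
import Groth.Agent.DCohMore.SpecTors
import Groth.Agent.DCohMore.BvdBStep
import Groth.Agent.ExtCechLib.Basic
import Groth.Agent.DCohMore.BCTI
import Mathlib.Algebra.Category.ModuleCat.Localization
import Mathlib.Algebra.Homology.HomotopyCategory.MappingCocone

/-!
# The extended Čech complex represents the sections with supports
-/

set_option autoImplicit false
set_option linter.style.haveILetI false
set_option backward.isDefEq.respectTransparency false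
set_option maxHeartbeats 1000000

universe u

open CategoryTheory CategoryTheory.Limits AlgebraicGeometry CategoryTheory.Pretriangulated
open Groth.Agent.DCohLib Groth.Agent.DCohMore DerCA
attribute [local instance] HasDerivedCategory.standard

noncomputable section

namespace Groth.Agent.RGammaCechLib

variable {X : Scheme.{u}} (W : X.Opens)

/-- No maps from objects supported outside `W`. -/
def Orth (N : DCoh.D X) : Prop :=
  ∀ F : DCoh.D X, IsZero ((DCoh.restrictD W.ι).obj F) → ∀ φ : F ⟶ N, φ = 0

theorem orth_of_iso {N N' : DCoh.D X} (e : N ≅ N') (h : Orth W N) : Orth W N' := fun F hF φ => by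
  rw [← cancel_mono e.inv, zero_comp]
  exact h F hF _

theorem orth_rpush {U : Scheme.{u}} (j : U ⟶ X) [IsOpenImmersion j] [DCoh.HasRpush j]
    (hj : j.opensRange ≤ W) (N : DCoh.D U) : Orth W ((DCoh.Rpush j).obj N) := by
  intro F hF φ
  haveI : DCoh.HasLpull j := DCohLib.hasLpull j
  have hr : Set.range j ⊆ Set.range W.ι := by rw [W.range_ι]; exact hj
  let i := IsOpenImmersion.lift W.ι j hr
  haveI : IsOpenImmersion i := by
    haveI : IsOpenImmersion (i ≫ W.ι) := by rw [IsOpenImmersion.lift_fac]; infer_instance
    exact IsOpenImmersion.of_comp i W.ι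
  have hz : IsZero ((DCoh.restrictD j).obj F) :=
    (isZero_restrictD_comp i W.ι hF).of_iso ((restrictDCongr (IsOpenImmersion.lift_fac W.ι j hr).symm).app F)
  exact ((TwistShriek.restrictAdj j).homEquiv F N).symm.injective (hz.eq_of_src _ _)

variable {A : Type u} [CommRing A]

/-- The inclusion of a basic open. -/
abbrev jf (f : A) : Spec (CommRingCat.of (Localization.Away f)) ⟶ Spec (CommRingCat.of A) :=
  Spec.map (CommRingCat.ofHom (algebraMap A (Localization.Away f)))

/-- Localisation as restriction of scalars. -/
def locFunctorIso (f : A) :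
    locFunctor (Submonoid.powers f) ≅ ModuleCat.localizedModuleFunctor (Submonoid.powers f) ⋙
      ModuleCat.restrictScalars (algebraMap A (Localization (Submonoid.powers f))) :=
  NatIso.ofComponents
    (fun M =>
      haveI : IsLocalizedModule (Submonoid.powers f) (M.localizedModuleMkLinearMap (Submonoid.powers f)) :=
        inferInstance
      LinearEquiv.toModuleIso
        (X₁ := (locFunctor (Submonoid.powers f)).obj M)
        (X₂ := (ModuleCat.localizedModuleFunctor (Submonoid.powers f) ⋙
          ModuleCat.restrictScalars (algebraMap A (Localization (Submonoid.powers f)))).obj M)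
        { toFun := IsLocalizedModule.iso (Submonoid.powers f) (M.localizedModuleMkLinearMap (Submonoid.powers f))
          invFun := (IsLocalizedModule.iso (Submonoid.powers f) (M.localizedModuleMkLinearMap (Submonoid.powers f))).symm
          left_inv := fun x => LinearEquiv.symm_apply_apply _ _
          right_inv := fun x => LinearEquiv.apply_symm_apply _ _
          map_add' := fun x y => map_add _ x y
          map_smul' := fun r x => (map_smul (IsLocalizedModule.iso (Submonoid.powers f)
            (M.localizedModuleMkLinearMap (Submonoid.powers f))) r x).trans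
              (algebraMap_smul (Localization (Submonoid.powers f)) r
                (IsLocalizedModule.iso (Submonoid.powers f) (M.localizedModuleMkLinearMap (Submonoid.powers f)) x :
                  ↑(M.localizedModule (Submonoid.powers f)))).symm })
    fun {M N} g => by
      let S := Submonoid.powers f
      let uM := M.localizedModuleMkLinearMap S
      let uN := N.localizedModuleMkLinearMap S
      have h : (IsLocalizedModule.iso S uN).toLinearMap ∘ₗ
            IsLocalizedModule.map S (LocalizedModule.mkLinearMap S M) (LocalizedModule.mkLinearMap S N) g.hom =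
          (IsLocalizedModule.mapExtendScalars S uM uN (Localization S) g.hom).restrictScalars A ∘ₗ
            (IsLocalizedModule.iso S uM).toLinearMap := by
        refine IsLocalizedModule.ext S (LocalizedModule.mkLinearMap S M) (IsLocalizedModule.map_units uN) ?_
        refine LinearMap.ext fun m => ?_
        simp [LocalizedModule.mkLinearMap_apply, IsLocalizedModule.iso_apply_mk]
        rw [← LocalizedModule.mkLinearMap_apply, IsLocalizedModule.map_apply, LocalizedModule.mkLinearMap_apply,
          IsLocalizedModule.iso_mk_one]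
      ext x
      exact LinearMap.congr_fun h x

theorem exists_restrictD_loc (f : A) (K : DRing.Cx A) :
    ∃ P : Dual.D (Localization.Away f), Nonempty (DRing.toD ((locCx (Submonoid.powers f)).obj K) ≅
      (DRing.restrictD (algebraMap A (Localization.Away f))).obj P) := by
  let F := ModuleCat.localizedModuleFunctor (Submonoid.powers f)
  let R := ModuleCat.restrictScalars.{u} (algebraMap A (Localization (Submonoid.powers f)))
  let K' := (F.mapHomologicalComplex (ComplexShape.up ℤ)).obj K
  refine ⟨DerivedCategory.Q.obj K', ⟨DerivedCategory.Q.mapIso ?_ ≪≫ (R.mapDerivedCategoryFactors.app K').symm⟩⟩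
  exact (NatIso.mapHomologicalComplex (locFunctorIso f) (ComplexShape.up ℤ)).app K

theorem orth_tilde_loc [PreservesFiniteLimits (tilde.functor (CommRingCat.of A))]
    (W : (Spec (CommRingCat.of A)).Opens) (f : A) (hf : PrimeSpectrum.basicOpen f ≤ W) (K : DRing.Cx A) :
    Orth W ((DCoh.tildeD (CommRingCat.of A)).obj (DRing.toD ((locCx (Submonoid.powers f)).obj K))) := by
  haveI := TildeD.preservesFiniteLimits_tilde (R := CommRingCat.of (Localization.Away f))
  haveI : DCoh.HasRpush (jf f) := BC.hasRpush _
  obtain ⟨P, ⟨e⟩⟩ := exists_restrictD_loc f K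
  refine orth_of_iso W ((TildeRpush.tildeRpushIso (algebraMap A (Localization.Away f))).app P ≪≫
    (DCoh.tildeD (CommRingCat.of A)).mapIso e.symm) (orth_rpush W (jf f) ?_ _)
  exact (le_of_eq (Scheme.Hom.opensRange_localizationAway (R := CommRingCat.of A) f)).trans hf

theorem exists_universal [PreservesFiniteLimits (tilde.functor (CommRingCat.of A))]
    (W : (Spec (CommRingCat.of A)).Opens) (M : ModuleCat.{u} A) : ∀ fs : List A,
    (∀ f ∈ fs, PrimeSpectrum.basicOpen f ≤ W) →
      ∃ t : (DCoh.tildeD (CommRingCat.of A)).obj (DRing.toD (DerCA.extCech M fs)) ⟶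
          (DCoh.tildeD (CommRingCat.of A)).obj (Dual.inD A M),
        ∀ F : DCoh.D (Spec (CommRingCat.of A)), IsZero ((DCoh.restrictD W.ι).obj F) →
          Function.Bijective fun φ : F ⟶ _ => φ ≫ t
  | [], _ => by
    let e : DRing.toD (DerCA.extCech M []) ≅ Dual.inD A M :=
      ((DerivedCategory.singleFunctorIsoCompQ (ModuleCat.{u} A) 0).app M).symm
    exact ⟨((DCoh.tildeD (CommRingCat.of A)).mapIso e).hom, fun F _ =>
      (Iso.homToEquiv ((DCoh.tildeD (CommRingCat.of A)).mapIso e)).bijective⟩
  | f :: fs, h => by
    obtain ⟨t, ht⟩ := exists_universal W M fs fun g hg => h g (List.mem_cons_of_mem f hg)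
    let φ := locCxUnit (Submonoid.powers f) (DerCA.extCech M fs)
    let T₀ : Triangle (Dual.D A) := DerivedCategory.Q.mapTriangle.obj (CochainComplex.mappingCocone.triangle φ)
    have hT₀ : T₀ ∈ distTriang _ := by
      rw [rotate_distinguished_triangle]
      refine isomorphic_distinguished _ (DerivedCategory.mappingCone_triangle_distinguished φ) _ ?_
      exact (DerivedCategory.Q.mapTriangleRotateIso).app _ ≪≫
        DerivedCategory.Q.mapTriangle.mapIso (CochainComplex.mappingCocone.rotateTriangleIso φ)
    have hT := (DCoh.tildeD (CommRingCat.of A)).map_distinguished _ hT₀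
    have horth := orth_tilde_loc W f (h f (List.mem_cons_self ..)) (DerCA.extCech M fs)
    refine ⟨(DCoh.tildeD (CommRingCat.of A)).map (DerivedCategory.Q.map (CochainComplex.mappingCocone.fst φ)) ≫ t,
      fun F hF => ?_⟩
    have hb := TwistShriek.bijective_comp_mor₁ _ hT F (horth F hF)
      (horth _ (((shiftFunctor _ (1 : ℤ)).map_isZero hF).of_iso (((DCoh.restrictD W.ι).commShiftIso (1 : ℤ)).app F)))
    refine Function.Bijective.of_comp_iff' (f := fun ψ => ψ ≫ t) (ht F hF) _ |>.2 hb |> fun hc => ?_
    convert hc using 1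
    funext ψ
    exact (Category.assoc _ _ _).symm

theorem puncturedOpen_eq (fs : List A) :
    LocCoh.puncturedOpen A (Ideal.span {a | a ∈ fs}) = gOpen fs := by
  refine TopologicalSpace.Opens.ext ?_
  show (PrimeSpectrum.zeroLocus ((Ideal.span {a | a ∈ fs} : Ideal A) : Set A))ᶜ = _
  rw [PrimeSpectrum.zeroLocus_span]
  rfl

theorem isZero_restrictD_extCech [PreservesFiniteLimits (tilde.functor (CommRingCat.of A))] (fs : List A)
    (M : ModuleCat.{u} A) :
    IsZero ((DCoh.restrictD (gOpen fs).ι).obj
      ((DCoh.tildeD (CommRingCat.of A)).obj (DRing.toD (DerCA.extCech M fs)))) := by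
  refine (tors_iff_isZero fs _).1 fun f hf i x => ?_
  let e := ((DerivedCategory.homologyFunctorFactors (ModuleCat.{u} A) i).app (DerCA.extCech M fs)).toLinearEquiv
  obtain ⟨n, -, hn⟩ := ExtCechLib.exists_pow_smul_eq_zero M fs i (e x)
  exact ⟨n, e.injective (by rw [map_smul, hn f hf, map_zero])⟩

theorem nonempty_iso (fs : List A) (M : ModuleCat.{u} A)
    [PreservesFiniteLimits (tilde.functor (CommRingCat.of A))]
    [CxOX.HasRgammaZ (LocCoh.puncturedOpen A (Ideal.span {a | a ∈ fs})).ι] :
    Nonempty ((DCoh.tildeD (CommRingCat.of A)).obj (DRing.toD (DerCA.extCech M fs)) ≅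
      (CxOX.RgammaZ (LocCoh.puncturedOpen A (Ideal.span {a | a ∈ fs})).ι).obj
        ((DCoh.tildeD (CommRingCat.of A)).obj (Dual.inD A M))) := by
  let W : (Spec (CommRingCat.of A)).Opens := LocCoh.puncturedOpen A (Ideal.span {a | a ∈ fs})
  have hW : W = gOpen fs := puncturedOpen_eq fs
  obtain ⟨t, ht⟩ := exists_universal W M fs fun f hf x hx => by
    rw [hW]
    exact mem_gOpen.2 ⟨f, hf, hx⟩
  have hC : IsZero ((DCoh.restrictD W.ι).obj
      ((DCoh.tildeD (CommRingCat.of A)).obj (DRing.toD (DerCA.extCech M fs)))) := by
    rw [hW]; exact isZero_restrictD_extCech fs M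
  obtain ⟨h₀, hb⟩ := TwistShriek.rgammaZ_props W ((DCoh.tildeD (CommRingCat.of A)).obj (Dual.inD A M))
  obtain ⟨α, hα⟩ := (hb _ hC).2 t
  obtain ⟨β, hβ⟩ := (ht _ h₀).2 ((CxOX.RgammaZToId W.ι).app _)
  refine ⟨⟨α, β, ?_, ?_⟩⟩
  · apply (ht _ hC).1
    show (α ≫ β) ≫ t = 𝟙 _ ≫ t
    rw [Category.assoc, Category.id_comp]
    exact (congrArg (α ≫ ·) hβ).trans hα
  · apply (hb _ h₀).1
    show (β ≫ α) ≫ _ = 𝟙 _ ≫ _
    rw [Category.assoc, Category.id_comp]
    exact (congrArg (β ≫ ·) hα).trans hβ

end Groth.Agent.RGammaCechLib
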